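import Cfsg.Agent.H45.UniE.Def

/-!
# Theorem (U) for split groups, abstract part: Curtis' lemma

`DatR ι Φ k G` : group data with a function `c` (a matrix coefficient) and bounds `qq b` for the positive roots `b`.

* `DatR.dens` : a function in `L` (span of the right translates of `c`) which is zero on `U⁻ T U` is zero;
* `DatR.K_le` : the functions in `L` killed by all `X b n`, `0 < n < qq b`, are the multiples of `c`;
* `DatR.low_split`, `DatR.fix_le` : the functions in `L` fixed by `P` are the multiples of `c`.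
-/

set_option autoImplicit false
set_option linter.unusedSectionVars false

namespace Cfsg.Agent.H45.UniE

open Polynomial Finset Cfsg.Agent.H45.Uni

/-- the data -/
structure DatR (ι Φ k G : Type*) [Field k] [Group G] extends GDat ι Φ k G where
  qq : Φ → ℕ
  qq_pos : ∀ b, 0 < qq b
  c : G → k
  wt : ℤ
  N : ℕ
  M : ℕ
  c_one : c 1 = 1
  c_x : ∀ g i s, c (g * x i s) = c g
  c_y : ∀ g i s, c (y i s * g) = c g
  c_T : ∀ t ∈ T, ∀ g, c (t * g) = c t * c g
  c_δ : ∀ g s, c (g * δ s) = ((s ^ wt : kˣ) : k) * c g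
  cmq : ∀ i b s, ∃ l : List (Φ × k × ℕ), (∀ a ∈ l, 0 < a.2.2 ∧ qq b ≤ a.2.2 * qq a.1) ∧
    ∀ t, x i (-s) * z b t * x i s = (l.map fun a => z a.1 (a.2.1 * t ^ a.2.2)).prod
  pol_z : ∀ b g h, ∃ P : k[X], P.natDegree ≤ N ∧ ∀ s, c (g * z b s * h) = P.eval s
  pol_y : ∀ i g h, ∃ P : k[X], ∀ s, c (g * y i s * h) = P.eval s
  pol_δ : ∀ g h, ∃ P : k[X], P.natDegree ≤ N ∧ ∀ s : kˣ, (s : k) ^ M * c (g * δ s * h) = P.eval (s : k)
  deg : ∀ i g, ∃ P : k[X], P.natDegree < qq (zi i) ∧ ∀ s, c (x i s * g) = P.eval s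

namespace DatR

variable {ι Φ k G : Type*} [Field k] [Group G] (D : DatR ι Φ k G)

/-- the span of the right translates of `c` -/
def L : Submodule k (G → k) := Submodule.span k (Set.range fun h => RR h D.c)

theorem c_mem : D.c ∈ D.L := Submodule.subset_span ⟨1, RR_one _⟩

theorem RR_mem (h : G) {F : G → k} (hF : F ∈ D.L) : RR h F ∈ D.L := by
  unfold L at hF ⊢
  induction hF using Submodule.span_induction with
  | mem F hF =>
    obtain ⟨h', rfl⟩ := hF
    refine Submodule.subset_span ⟨h * h', ?_⟩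
    exact RR_mul _ _ _
  | zero => rw [map_zero]; exact Submodule.zero_mem _
  | add F F' _ _ h1 h2 => rw [map_add]; exact Submodule.add_mem _ h1 h2
  | smul a F _ h1 => rw [map_smul]; exact Submodule.smul_mem _ _ h1

/-! ### transfer of the properties of `c` to `L` -/

theorem L_y {F : G → k} (hF : F ∈ D.L) (i : ι) (s : k) (g : G) : F (D.y i s * g) = F g := by
  unfold L at hF
  induction hF using Submodule.span_induction with
  | mem F hF =>
    obtain ⟨h', rfl⟩ := hF
    show D.c (D.y i s * g * h') = D.c (g * h')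
    rw [mul_assoc, D.c_y]
  | zero => rfl
  | add F F' _ _ h1 h2 => rw [Pi.add_apply, Pi.add_apply, h1, h2]
  | smul a F _ h1 => rw [Pi.smul_apply, Pi.smul_apply, h1]

theorem L_T {F : G → k} (hF : F ∈ D.L) {t : G} (ht : t ∈ D.T) (g : G) : F (t * g) = D.c t * F g := by
  unfold L at hF
  induction hF using Submodule.span_induction with
  | mem F hF =>
    obtain ⟨h', rfl⟩ := hF
    show D.c (t * g * h') = D.c t * D.c (g * h')
    rw [mul_assoc, D.c_T t ht]
  | zero => simp
  | add F F' _ _ h1 h2 => rw [Pi.add_apply, Pi.add_apply, h1, h2, mul_add]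
  | smul a F _ h1 => rw [Pi.smul_apply, Pi.smul_apply, h1, smul_eq_mul, smul_eq_mul]; ring

theorem L_pol_z {F : G → k} (hF : F ∈ D.L) (i : Φ) (g : G) :
    ∃ P : k[X], P.natDegree ≤ D.N ∧ ∀ s, F (g * D.z i s) = P.eval s := by
  unfold L at hF
  induction hF using Submodule.span_induction with
  | mem F hF =>
    obtain ⟨h', rfl⟩ := hF
    exact D.pol_z i g h'
  | zero => exact ⟨0, by simp, fun s => by simp⟩
  | add F F' _ _ h1 h2 =>
    obtain ⟨P, h1, h1'⟩ := h1
    obtain ⟨P', h2, h2'⟩ := h2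
    exact ⟨P + P', (natDegree_add_le _ _).trans (max_le h1 h2), fun s => by
      rw [Pi.add_apply, h1', h2', eval_add]⟩
  | smul a F _ h1 =>
    obtain ⟨P, h1, h1'⟩ := h1
    exact ⟨C a * P, (natDegree_C_mul_le _ _).trans h1, fun s => by
      rw [Pi.smul_apply, h1', eval_mul, eval_C, smul_eq_mul]⟩

theorem L_pol_y {F : G → k} (hF : F ∈ D.L) (i : ι) (g h : G) :
    ∃ P : k[X], ∀ s, F (g * D.y i s * h) = P.eval s := by
  unfold L at hF
  induction hF using Submodule.span_induction with
  | mem F hF =>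
    obtain ⟨h', rfl⟩ := hF
    obtain ⟨P, hP⟩ := D.pol_y i g (h * h')
    exact ⟨P, fun s => by rw [← hP, ← mul_assoc]; rfl⟩
  | zero => exact ⟨0, fun s => by simp⟩
  | add F F' _ _ h1 h2 =>
    obtain ⟨P, h1'⟩ := h1
    obtain ⟨P', h2'⟩ := h2
    exact ⟨P + P', fun s => by rw [Pi.add_apply, h1', h2', eval_add]⟩
  | smul a F _ h1 =>
    obtain ⟨P, h1'⟩ := h1
    exact ⟨C a * P, fun s => by rw [Pi.smul_apply, h1', eval_mul, eval_C, smul_eq_mul]⟩

theorem L_pol_δ {F : G → k} (hF : F ∈ D.L) (g : G) :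
    ∃ P : k[X], P.natDegree ≤ D.N ∧ ∀ s : kˣ, (s : k) ^ D.M * F (g * D.δ s) = P.eval (s : k) := by
  unfold L at hF
  induction hF using Submodule.span_induction with
  | mem F hF =>
    obtain ⟨h', rfl⟩ := hF
    exact D.pol_δ g h'
  | zero => exact ⟨0, by simp, fun s => by simp⟩
  | add F F' _ _ h1 h2 =>
    obtain ⟨P, h1, h1'⟩ := h1
    obtain ⟨P', h2, h2'⟩ := h2
    exact ⟨P + P', (natDegree_add_le _ _).trans (max_le h1 h2), fun s => by
      rw [Pi.add_apply, mul_add, h1', h2', eval_add]⟩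
  | smul a F _ h1 =>
    obtain ⟨P, h1, h1'⟩ := h1
    exact ⟨C a * P, (natDegree_C_mul_le _ _).trans h1, fun s => by
      rw [Pi.smul_apply, eval_mul, ← h1', eval_C, smul_eq_mul]; ring⟩

theorem L_deg {F : G → k} (hF : F ∈ D.L) (i : ι) :
    ∃ P : k[X], P.natDegree < D.qq (D.zi i) ∧ ∀ s, F (D.x i s) = P.eval s := by
  unfold L at hF
  induction hF using Submodule.span_induction with
  | mem F hF =>
    obtain ⟨h', rfl⟩ := hF
    exact D.deg i h'
  | zero => exact ⟨0, by simpa using D.qq_pos (D.zi i), fun s => by simp⟩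
  | add F F' _ _ h1 h2 =>
    obtain ⟨P, h1, h1'⟩ := h1
    obtain ⟨P', h2, h2'⟩ := h2
    exact ⟨P + P', (natDegree_add_le _ _).trans_lt (max_lt h1 h2), fun s => by
      rw [Pi.add_apply, h1', h2', eval_add]⟩
  | smul a F _ h1 =>
    obtain ⟨P, h1, h1'⟩ := h1
    exact ⟨C a * P, (natDegree_C_mul_le _ _).trans_lt h1, fun s => by
      rw [Pi.smul_apply, h1', eval_mul, eval_C, smul_eq_mul]⟩


variable [Infinite k]

/-- **density**: a function in `L` which is zero on `U⁻ T U` is zero -/
theorem dens {F : G → k} (hF : F ∈ D.L) (h : ∀ t ∈ D.T, ∀ u ∈ D.U0, F (t * u) = 0) : F = 0 := by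
  funext g
  refine D.toGDat.dens (fun i g h => D.L_pol_y hF i g h) (fun v hv t ht u hu => ?_) g
  have key : ∀ v ∈ D.Um0, ∀ g, F (v * g) = F g := by
    intro v hv
    induction hv using Subgroup.closure_induction with
    | mem u hu => obtain ⟨i, s, rfl⟩ := hu; exact D.L_y hF i s
    | one => intro g; rw [one_mul]
    | mul u v _ _ h1 h2 => intro g; rw [mul_assoc, h1, h2]
    | inv u _ h1 => intro g; rw [← h1 (u⁻¹ * g), mul_inv_cancel_left]
  rw [mul_assoc, key v hv]
  exact h t ht u hu

theorem exists_nodes (k : Type*) [Field k] [Infinite k] (n : ℕ) : ∃ S : Finset k, S.card = n ∧ (0 : k) ∉ S := by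
  have h1 : Set.Infinite ({(0 : k)}ᶜ : Set k) := (Set.finite_singleton (0 : k)).infinite_compl
  obtain ⟨S, hS, hc⟩ := h1.exists_subset_card_eq n
  exact ⟨S, hc, fun h => hS h rfl⟩

/-- nodes for the interpolation -/
noncomputable def nodes (k : Type*) [Field k] [Infinite k] (n : ℕ) : Finset k := (exists_nodes k n).choose

theorem nodes_card (n : ℕ) : (nodes k n).card = n := (exists_nodes k n).choose_spec.1
theorem nodes_zero (n : ℕ) : (0 : k) ∉ nodes k n := (exists_nodes k n).choose_spec.2

/-- `X b n F` : the coefficient of `s ^ n` in `z b s F` -/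
noncomputable def X (i : Φ) (n : ℕ) : (G → k) →ₗ[k] (G → k) :=
  op (nodes k (D.N + 1)) (fun _ => 1) (D.z i) n

open Classical in
/-- `δ`, as a function on `k` -/
noncomputable def dl (a : k) : G := if h : a ≠ 0 then D.δ (Units.mk0 a h) else 1

/-- the components for `δ` -/
noncomputable def H (n : ℕ) : (G → k) →ₗ[k] (G → k) :=
  op (nodes k (D.N + 1)) (fun a => a ^ D.M) D.dl n

theorem pol_ext {P Q : k[X]} (h : ∀ s : kˣ, P.eval (s : k) = Q.eval (s : k)) : P = Q := by
  apply Polynomial.eq_of_infinite_eval_eq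
  apply Set.Infinite.mono (s := ({(0 : k)}ᶜ : Set k))
  · intro s hs
    exact h (Units.mk0 s hs)
  · exact (Set.finite_singleton (0 : k)).infinite_compl

theorem X_apply {F : G → k} (hF : F ∈ D.L) (i : Φ) (n : ℕ) {g : G} {P : k[X]}
    (h : ∀ s, F (g * D.z i s) = P.eval s) : D.X i n F g = P.coeff n := by
  obtain ⟨P', hP', h'⟩ := D.L_pol_z hF i g
  have : P = P' := pol_ext fun s => by rw [← h, ← h']
  subst this
  refine op_apply ?_ fun a _ => ?_
  · rw [nodes_card]
    refine (degree_le_natDegree).trans_lt ?_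
    exact_mod_cast Nat.lt_succ_of_le hP'
  · rw [one_mul, h]

theorem H_apply {F : G → k} (hF : F ∈ D.L) (n : ℕ) {g : G} {P : k[X]}
    (h : ∀ s : kˣ, (s : k) ^ D.M * F (g * D.δ s) = P.eval (s : k)) : D.H n F g = P.coeff n := by
  obtain ⟨P', hP', h'⟩ := D.L_pol_δ hF g
  have : P = P' := pol_ext fun s => by rw [← h, ← h']
  subst this
  refine op_apply ?_ fun a ha => ?_
  · rw [nodes_card]
    refine (degree_le_natDegree).trans_lt ?_
    exact_mod_cast Nat.lt_succ_of_le hP'
  · have ha0 : a ≠ 0 := by rintro rfl; exact nodes_zero _ ha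
    have h1 := h (Units.mk0 a ha0)
    rw [Units.val_mk0] at h1
    rw [← h1]
    unfold dl
    rw [dif_pos ha0]

theorem X_mem (i : Φ) (n : ℕ) {F : G → k} (hF : F ∈ D.L) : D.X i n F ∈ D.L :=
  op_mem (fun _ _ _ h => D.RR_mem _ h) n hF

theorem H_mem (n : ℕ) {F : G → k} (hF : F ∈ D.L) : D.H n F ∈ D.L :=
  op_mem (fun _ _ _ h => D.RR_mem _ h) n hF

theorem expand_z {F : G → k} (hF : F ∈ D.L) (i : Φ) (g : G) (s : k) :
    F (g * D.z i s) = ∑ n ∈ range (D.N + 1), D.X i n F g * s ^ n := by
  obtain ⟨P, hP, h⟩ := D.L_pol_z hF i g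
  rw [h, eval_eq_sum_range' (Nat.lt_succ_of_le hP)]
  exact Finset.sum_congr rfl fun n _ => by rw [D.X_apply hF i n h]

theorem expand_δ {F : G → k} (hF : F ∈ D.L) (g : G) (s : kˣ) :
    (s : k) ^ D.M * F (g * D.δ s) = ∑ n ∈ range (D.N + 1), D.H n F g * (s : k) ^ n := by
  obtain ⟨P, hP, h⟩ := D.L_pol_δ hF g
  rw [h, eval_eq_sum_range' (Nat.lt_succ_of_le hP)]
  exact Finset.sum_congr rfl fun n _ => by rw [D.H_apply hF n h]

theorem X_zero {F : G → k} (hF : F ∈ D.L) (i : Φ) : D.X i 0 F = F := by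
  funext g
  obtain ⟨P, hP, h⟩ := D.L_pol_z hF i g
  rw [D.X_apply hF i 0 h, coeff_zero_eq_eval_zero, ← h, D.z_zero, mul_one]

theorem δ_one : D.δ 1 = 1 := by
  have h := D.δ_mul 1 1
  rw [mul_one] at h
  exact (mul_eq_left.1 h.symm)

theorem sum_H {F : G → k} (hF : F ∈ D.L) : ∑ n ∈ range (D.N + 1), D.H n F = F := by
  funext g
  have h := D.expand_δ hF g 1
  rw [D.δ_one, mul_one, Units.val_one, one_pow, one_mul] at h
  rw [Finset.sum_apply, h]
  exact Finset.sum_congr rfl fun n _ => by rw [one_pow, mul_one]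

/-- homogeneous functions -/
def Hom (h : ℤ) (F : G → k) : Prop := ∀ (s : kˣ) (g : G), F (g * D.δ s) = ((s ^ h : kˣ) : k) * F g

theorem hom_H (n : ℕ) {F : G → k} (hF : F ∈ D.L) : D.Hom ((n : ℤ) - D.M) (D.H n F) := by
  intro s g
  obtain ⟨P, hP, h⟩ := D.L_pol_δ hF g
  have h2 : ∀ u : kˣ, (u : k) ^ D.M * F (g * D.δ s * D.δ u) =
      (C ((s : k)⁻¹ ^ D.M) * P.comp (C (s : k) * Polynomial.X)).eval (u : k) := by
    intro u
    have h1 := h (s * u)
    rw [D.δ_mul, ← mul_assoc, Units.val_mul, mul_pow] at h1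
    have hs : (s : k) ≠ 0 := s.ne_zero
    rw [eval_mul, eval_C, eval_comp, eval_mul, eval_C, eval_X, ← h1, inv_pow, mul_assoc ((s : k) ^ D.M),
      inv_mul_cancel_left₀ (pow_ne_zero _ hs)]
  rw [D.H_apply hF n h2, D.H_apply hF n h, coeff_C_mul, comp_C_mul_X_coeff]
  rw [zpow_sub, zpow_natCast, zpow_natCast, Units.val_mul, Units.val_pow_eq_pow_val,
    Units.val_inv_eq_inv_val, Units.val_pow_eq_pow_val, inv_pow]
  ring

theorem H_of_hom {h : ℤ} {F : G → k} (hF : F ∈ D.L) (hh : D.Hom h F) (n : ℕ) (hn : (n : ℤ) - D.M ≠ h) :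
    D.H n F = 0 := by
  funext g
  by_cases hg : F g = 0
  · have h2 : ∀ u : kˣ, (u : k) ^ D.M * F (g * D.δ u) = (0 : k[X]).eval (u : k) := by
      intro u
      rw [hh, hg, mul_zero, mul_zero, eval_zero]
    rw [D.H_apply hF n h2, coeff_zero]
    rfl
  obtain ⟨P, hP, h1⟩ := D.L_pol_δ hF g
  rw [D.H_apply hF n h1]
  -- `P (s) = s ^ (M + h) F g`
  have h2 : ∀ s : kˣ, P.eval (s : k) = ((s ^ (h + D.M) : kˣ) : k) * F g := by
    intro s
    rw [← h1, hh, zpow_add, Units.val_mul, zpow_natCast, Units.val_pow_eq_pow_val]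
    ring
  by_cases h3 : 0 ≤ h + D.M
  · obtain ⟨e, he⟩ := Int.eq_ofNat_of_zero_le h3
    have h4 : P = C (F g) * Polynomial.X ^ e := pol_ext fun s => by
      rw [h2, he, zpow_natCast, Units.val_pow_eq_pow_val, eval_mul, eval_C, eval_pow, eval_X]
      ring
    rw [h4, coeff_C_mul, coeff_X_pow, if_neg (by rintro rfl; exact hn (by omega)), mul_zero]
    rfl
  · -- negative exponent
    exfalso
    obtain ⟨e, he⟩ := Int.eq_ofNat_of_zero_le (show 0 ≤ -(h + D.M) by omega)
    have h4 : P * Polynomial.X ^ e = C (F g) := pol_ext fun s => by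
      rw [eval_mul, h2, eval_pow, eval_X, eval_C]
      have h5 : h + D.M = -(e : ℤ) := by omega
      rw [h5, zpow_neg, zpow_natCast, Units.val_inv_eq_inv_val, Units.val_pow_eq_pow_val]
      have hs : (s : k) ≠ 0 := s.ne_zero
      field_simp
    have h5 := congrArg (fun P : k[X] => P.coeff 0) h4
    simp only [coeff_C_zero, coeff_mul_X_pow'] at h5
    rw [if_neg (by omega)] at h5
    exact hg h5.symm

/-- nonzero homogeneous functions in `L` have degree `n - M` with `n ≤ N` -/
theorem hom_range {h : ℤ} {F : G → k} (hF : F ∈ D.L) (hh : D.Hom h F) (h0 : F ≠ 0) :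
    ∃ n ≤ D.N, h = (n : ℤ) - D.M := by
  by_contra hcon
  push Not at hcon
  apply h0
  rw [← D.sum_H hF]
  refine Finset.sum_eq_zero fun n hn => ?_
  exact D.H_of_hom hF hh n (fun h1 => hcon n (by rw [Finset.mem_range] at hn; omega) h1.symm)

theorem H_self {n : ℕ} {F : G → k} (hF : F ∈ D.L) (hh : D.Hom ((n : ℤ) - D.M) F) (hn : n ≤ D.N) :
    D.H n F = F := by
  conv_rhs => rw [← D.sum_H hF]
  rw [Finset.sum_eq_single n]
  · intro m _ hm
    exact D.H_of_hom hF hh m (by omega)
  · intro h1
    exact absurd (Finset.mem_range.2 (by omega)) h1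

theorem hom_X {h : ℤ} {F : G → k} (hF : F ∈ D.L) (hh : D.Hom h F) (i : Φ) (n : ℕ) :
    D.Hom (h + (D.ht i * n : ℕ)) (D.X i n F) := by
  intro s g
  obtain ⟨P, hP, h1⟩ := D.L_pol_z hF i g
  have h2 : ∀ u : k, F (g * D.δ s * D.z i u) =
      (C ((s ^ h : kˣ) : k) * P.comp (C ((s : k) ^ D.ht i) * Polynomial.X)).eval u := by
    intro u
    rw [mul_assoc, D.δ_z, ← mul_assoc, hh, h1, eval_mul, eval_C, eval_comp, eval_mul, eval_C, eval_X]
  rw [D.X_apply hF i n h2, D.X_apply hF i n h1, coeff_C_mul, comp_C_mul_X_coeff, zpow_add,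
    zpow_natCast, Units.val_mul, Units.val_pow_eq_pow_val, pow_mul]
  ring

/-! ### Curtis' lemma -/

/-- the functions killed by all `X b n`, `0 < n < qq b` -/
def K : Submodule k (G → k) where
  carrier := {F | F ∈ D.L ∧ ∀ b n, 0 < n → n < D.qq b → D.X b n F = 0}
  zero_mem' := ⟨D.L.zero_mem, fun b n _ _ => map_zero _⟩
  add_mem' := fun {a b} ha hb => ⟨D.L.add_mem ha.1 hb.1, fun c n h0 hn => by
    rw [map_add, ha.2 c n h0 hn, hb.2 c n h0 hn, add_zero]⟩
  smul_mem' := fun a F hF => ⟨D.L.smul_mem a hF.1, fun c n h0 hn => by rw [map_smul, hF.2 c n h0 hn, smul_zero]⟩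

theorem mem_K {F : G → k} : F ∈ D.K ↔ F ∈ D.L ∧ ∀ b n, 0 < n → n < D.qq b → D.X b n F = 0 := Iff.rfl

/-- products of root elements with parameters of positive degree in `t`, applied to a function in `K` -/
theorem K_list {F : G → k} (hF : F ∈ D.K) (q0 : ℕ) (l : List (Φ × k × ℕ))
    (hl : ∀ a ∈ l, 0 < a.2.2 ∧ q0 ≤ a.2.2 * D.qq a.1) :
    ∃ (N' : ℕ) (f : ℕ → G → k), (∀ r, f r ∈ D.L) ∧ f 0 = F ∧ (∀ r, 0 < r → r < q0 → f r = 0) ∧
      ∀ g t, F (g * (l.map fun a => D.z a.1 (a.2.1 * t ^ a.2.2)).prod) = ∑ r ∈ range N', f r g * t ^ r := by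
  classical
  have hFL := (D.mem_K.1 hF).1
  induction l with
  | nil =>
    refine ⟨1, fun r => if r = 0 then F else 0, fun r => ?_, if_pos rfl, fun r hr _ => if_neg hr.ne', fun g t => ?_⟩
    · beta_reduce
      split_ifs
      · exact hFL
      · exact D.L.zero_mem
    · simp
  | cons a l ih =>
    obtain ⟨N', f, hfL, hf0, hf, hfe⟩ := ih fun a ha => hl a (List.mem_cons_of_mem _ ha)
    obtain ⟨hn0, hq⟩ := hl a List.mem_cons_self
    refine ⟨N' + a.2.2 * D.N + 1, fun r' => ∑ r ∈ range N', ∑ m ∈ range (D.N + 1),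
      if r + a.2.2 * m = r' then (a.2.1 ^ m) • D.X a.1 m (f r) else 0, fun r' => ?_, ?_, fun r' h0 hr' => ?_, fun g t => ?_⟩
    · refine Submodule.sum_mem _ fun r _ => Submodule.sum_mem _ fun m _ => ?_
      split_ifs
      · exact D.L.smul_mem _ (D.X_mem _ _ (hfL r))
      · exact D.L.zero_mem
    · beta_reduce
      by_cases hN' : N' = 0
      · -- `F = 0`
        have hF0 : F = 0 := by
          funext g
          have h1 := hfe g 0
          rw [hN', range_zero, sum_empty] at h1
          have e : (l.map fun a => D.z a.1 (a.2.1 * 0 ^ a.2.2)).prod = 1 := by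
            apply List.prod_eq_one
            intro b hb
            obtain ⟨a', ha', rfl⟩ := List.mem_map.1 hb
            have := (hl a' (List.mem_cons_of_mem _ ha')).1
            rw [zero_pow this.ne', mul_zero, D.z_zero]
          rw [e, mul_one] at h1
          exact h1
        rw [hN', range_zero, sum_empty, hF0]
      rw [Finset.sum_eq_single 0, Finset.sum_eq_single 0]
      · rw [if_pos (by simp), pow_zero, one_smul, D.X_zero (hfL 0), hf0]
      · intro m _ hm
        rw [if_neg]
        have : 0 < a.2.2 * m := Nat.mul_pos hn0 (Nat.pos_of_ne_zero hm)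
        omega
      · intro h; exact absurd (mem_range.2 (Nat.succ_pos _)) h
      · intro r _ hr
        exact Finset.sum_eq_zero fun m _ => by rw [if_neg (by omega)]
      · intro h; exact absurd (mem_range.2 (Nat.pos_of_ne_zero hN')) h
    · refine Finset.sum_eq_zero fun r _ => Finset.sum_eq_zero fun m _ => ?_
      split_ifs with h
      · rcases Nat.eq_zero_or_pos r with hr0 | hr0
        · subst hr0
          have hm0 : 0 < m := by
            rcases Nat.eq_zero_or_pos m with hm | hm
            · subst hm; simp at h; omega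
            · exact hm
          have hm : m < D.qq a.1 := by
            by_contra hcon
            push Not at hcon
            have := Nat.mul_le_mul_left a.2.2 hcon
            omega
          rw [hf0, (D.mem_K.1 hF).2 a.1 m hm0 hm, smul_zero]
        · rw [hf r hr0 (by omega), map_zero, smul_zero]
      · rfl
    · rw [List.map_cons, List.prod_cons, ← mul_assoc, hfe]
      have h1 : ∀ r ∈ range N', f r (g * D.z a.1 (a.2.1 * t ^ a.2.2)) * t ^ r =
          ∑ m ∈ range (D.N + 1), ((a.2.1 ^ m) • D.X a.1 m (f r)) g * t ^ (r + a.2.2 * m) := by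
        intro r _
        rw [D.expand_z (hfL r), Finset.sum_mul]
        refine Finset.sum_congr rfl fun m _ => ?_
        rw [Pi.smul_apply, smul_eq_mul, mul_pow, ← pow_mul, pow_add]
        ring
      rw [Finset.sum_congr rfl h1]
      have h2 : ∀ r' ∈ range (N' + a.2.2 * D.N + 1), (∑ r ∈ range N', ∑ m ∈ range (D.N + 1),
          if r + a.2.2 * m = r' then (a.2.1 ^ m) • D.X a.1 m (f r) else (0 : G → k)) g * t ^ r' =
          ∑ r ∈ range N', ∑ m ∈ range (D.N + 1),
            if r + a.2.2 * m = r' then ((a.2.1 ^ m) • D.X a.1 m (f r)) g * t ^ (r + a.2.2 * m) else 0 := by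
        intro r' _
        rw [Finset.sum_apply, Finset.sum_mul]
        refine Finset.sum_congr rfl fun r _ => ?_
        rw [Finset.sum_apply, Finset.sum_mul]
        refine Finset.sum_congr rfl fun m _ => ?_
        split_ifs with h
        · rw [h]
        · rw [Pi.zero_apply, zero_mul]
      symm
      rw [Finset.sum_congr rfl h2, Finset.sum_comm]
      refine Finset.sum_congr rfl fun r hr => ?_
      rw [Finset.sum_comm]
      refine Finset.sum_congr rfl fun m hm => ?_
      rw [Finset.sum_ite_eq, if_pos]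
      rw [mem_range] at hr hm ⊢
      have : a.2.2 * m ≤ a.2.2 * D.N := Nat.mul_le_mul_left _ (by omega)
      omega

theorem K_RR_x {F : G → k} (hF : F ∈ D.K) (i : ι) (s : k) : RR (D.x i s) F ∈ D.K := by
  have hFL := (D.mem_K.1 hF).1
  rw [mem_K]
  refine ⟨D.RR_mem _ hFL, fun b n h0 hn => ?_⟩
  obtain ⟨l, hl, hle⟩ := D.cmq i b s
  obtain ⟨N', f, -, -, hf, hfe⟩ := D.K_list hF (D.qq b) l hl
  funext g
  have h1 : ∀ t, (RR (D.x i s) F) (g * D.z b t) = (∑ r ∈ range N', C (f r (g * D.x i s)) * Polynomial.X ^ r).eval t := by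
    intro t
    rw [RR_apply, eval_finsetSum]
    have e : g * D.z b t * D.x i s = g * D.x i s * (l.map fun a => D.z a.1 (a.2.1 * t ^ a.2.2)).prod := by
      rw [← hle, D.x_neg]
      group
    rw [e, hfe]
    exact Finset.sum_congr rfl fun r _ => by rw [eval_mul, eval_C, eval_pow, eval_X]
  rw [D.X_apply (D.RR_mem _ hFL) b n h1, finsetSum_coeff]
  show _ = (0 : k)
  refine Finset.sum_eq_zero fun r _ => ?_
  rw [coeff_C_mul, coeff_X_pow]
  split_ifs with h
  · subst h; rw [hf n h0 hn]; simp
  · rw [mul_zero]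

theorem K_X_mem {F : G → k} (hF : F ∈ D.K) (i : ι) (n : ℕ) : D.X (D.zi i) n F ∈ D.K :=
  op_mem (fun a _ _ h => by rw [← D.x_eq]; exact D.K_RR_x h _ _) n hF

theorem K_RR_δ {F : G → k} (hF : F ∈ D.K) (s : kˣ) : RR (D.δ s) F ∈ D.K := by
  have hFL := (D.mem_K.1 hF).1
  rw [mem_K]
  refine ⟨D.RR_mem _ hFL, fun b n h0 hn => ?_⟩
  funext g
  obtain ⟨P, hP, h⟩ := D.L_pol_z hFL b (g * D.δ s)
  have h2 : ∀ u : k, (RR (D.δ s) F) (g * D.z b u) = (P.comp (C (((s : k) ^ D.ht b)⁻¹) * Polynomial.X)).eval u := by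
    intro u
    rw [RR_apply, eval_comp, eval_mul, eval_C, eval_X, ← h, mul_assoc, mul_assoc, D.δ_z, ← mul_assoc ((s : k) ^ D.ht b),
      mul_inv_cancel₀ (pow_ne_zero _ s.ne_zero), one_mul]
  rw [D.X_apply (D.RR_mem _ hFL) b n h2, comp_C_mul_X_coeff, ← D.X_apply hFL b n h,
    (D.mem_K.1 hF).2 b n h0 hn]
  simp

theorem K_H_mem {F : G → k} (hF : F ∈ D.K) (n : ℕ) : D.H n F ∈ D.K := by
  classical
  refine op_mem (fun a ha _ h => ?_) n hF
  have ha0 : a ≠ 0 := by rintro rfl; exact nodes_zero _ ha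
  unfold dl
  rw [dif_pos ha0]
  exact D.K_RR_δ h _

/-- a function in `L` fixed by the `x i s` is a multiple of `c` -/
theorem top {F : G → k} (hF : F ∈ D.L) (h : ∀ i s g, F (g * D.x i s) = F g) : F = F 1 • D.c := by
  have hU : ∀ {F : G → k}, (∀ i s g, F (g * D.x i s) = F g) → ∀ u ∈ D.U0, ∀ g, F (g * u) = F g := by
    intro F h u hu
    induction hu using Subgroup.closure_induction with
    | mem u hu => obtain ⟨i, s, rfl⟩ := hu; exact h i s
    | one => intro g; rw [mul_one]
    | mul u v _ _ h1 h2 => intro g; rw [← mul_assoc, h2, h1]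
    | inv u _ h1 => intro g; rw [← h1 (g * u⁻¹), inv_mul_cancel_right]
  have h1 : F - F 1 • D.c = 0 := by
    apply D.dens (D.L.sub_mem hF (D.L.smul_mem _ D.c_mem))
    intro t ht u hu
    have h2 := hU h u hu t
    have h3 := hU (fun i s g => D.c_x g i s) u hu t
    rw [Pi.sub_apply, Pi.smul_apply, h2, h3]
    have h4 := D.L_T hF ht 1
    rw [mul_one] at h4
    rw [h4, smul_eq_mul]
    ring
  exact sub_eq_zero.1 h1

/-- **Curtis' lemma**, homogeneous form -/
theorem K_hom {h : ℤ} {F : G → k} (hF : F ∈ D.K) (hh : D.Hom h F) : F = F 1 • D.c := by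
  -- downward induction on `h`
  have key : ∀ (d : ℕ) (h : ℤ) (F : G → k), F ∈ D.K → D.Hom h F → (D.N : ℤ) - D.M < h + d → F = F 1 • D.c := by
    intro d
    induction d with
    | zero =>
      intro h F hF hh hd
      have hFL := (D.mem_K.1 hF).1
      by_cases h0 : F = 0
      · rw [h0]; simp
      · obtain ⟨n, hn, h1⟩ := D.hom_range hFL hh h0
        push_cast at hd
        omega
    | succ d ih =>
      intro h F hF hh hd
      have hFL := (D.mem_K.1 hF).1
      apply D.top hFL
      intro i s g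
      -- the coefficients
      have h1 : ∀ n, 0 < n → D.X (D.zi i) n F = (D.X (D.zi i) n F) 1 • D.c := by
        intro n hn
        apply ih (h + (D.ht (D.zi i) * n : ℕ)) (D.X (D.zi i) n F) (D.K_X_mem hF i n) (D.hom_X hFL hh _ n)
        have h5 : 1 ≤ D.ht (D.zi i) * n := Nat.mul_pos (D.ht_pos _) hn
        push_cast at hd
        omega
      have h2 : ∀ n, 0 < n → D.X (D.zi i) n F 1 = 0 := by
        intro n hn
        by_cases hnp : n < D.qq (D.zi i)
        · rw [(D.mem_K.1 hF).2 _ n hn hnp]; rfl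
        · obtain ⟨P, hP, h3⟩ := D.L_deg hFL i
          have h4 : ∀ s, F (1 * D.z (D.zi i) s) = P.eval s := fun s => by rw [one_mul, ← D.x_eq, h3]
          rw [D.X_apply hFL _ n h4]
          exact coeff_eq_zero_of_natDegree_lt (by omega)
      rw [D.x_eq, D.expand_z hFL, Finset.sum_range_succ', Finset.sum_eq_zero, zero_add, pow_zero, mul_one, D.X_zero hFL]
      intro n _
      rw [h1 (n + 1) (Nat.succ_pos n), h2 (n + 1) (Nat.succ_pos n)]
      simp
  exact key ((D.N : ℤ) - D.M - h + 1).toNat h F hF hh (by omega)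

/-- **Curtis' lemma** -/
theorem K_le {F : G → k} (hF : F ∈ D.K) : ∃ a : k, F = a • D.c := by
  have hFL := (D.mem_K.1 hF).1
  refine ⟨∑ n ∈ range (D.N + 1), D.H n F 1, ?_⟩
  conv_lhs => rw [← D.sum_H hFL]
  rw [Finset.sum_smul]
  exact Finset.sum_congr rfl fun n _ => D.K_hom (D.K_H_mem hF n) (D.hom_H n hFL)

/-! ### functions fixed by a finite unipotent group -/

/-- the lowest component, for the root `b`, when all `z b s`, `s ∈ F_q`, fix `F` -/
theorem low_X {Fq : Type*} [Field Fq] [Fintype Fq] [Algebra Fq k] {F : G → k}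
    (hF : F ∈ D.L) (i : Φ) (h1 : ∀ (s : Fq) g, F (g * D.z i (algebraMap Fq k s)) = F g) {n : ℕ}
    (hlow : ∀ m < n, D.H m F = 0) {d : ℕ} (hd0 : 0 < d) (hdq : d < Fintype.card Fq) : D.X i d (D.H n F) = 0 := by
  funext g
  have hs : ∀ (s : Fq) (u : kˣ), ∀ g, F (g * D.z i ((u : k) ^ D.ht i * algebraMap Fq k s) * D.δ u) = F (g * D.δ u) := by
    intro s u g
    rw [mul_assoc, ← D.δ_z u i (algebraMap Fq k s), ← mul_assoc, h1]
  -- polynomial identity
  choose r hrN hr using fun m : ℕ => D.L_pol_z (D.H_mem m hF) i g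
  have hD := D.ht_pos i
  have h3 : ∀ s : Fq, (∑ m ∈ range (D.N + 1), (expand k (D.ht i) ((r m).comp (C (algebraMap Fq k s) * Polynomial.X))) *
      Polynomial.X ^ m : k[X]) =
      ∑ m ∈ range (D.N + 1), C (D.H m F g) * Polynomial.X ^ m := fun s => pol_ext fun u => by
    rw [eval_finsetSum, eval_finsetSum]
    have h4 := D.expand_δ hF (g * D.z i ((u : k) ^ D.ht i * algebraMap Fq k s)) u
    have h5 := D.expand_δ hF g u
    rw [hs] at h4
    rw [h5] at h4
    simp only [eval_mul, eval_C, eval_pow, eval_X, eval_comp, expand_eval]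
    rw [h4]
    exact Finset.sum_congr rfl fun m _ => by rw [hr, mul_comm ((u : k) ^ D.ht i)]
  by_cases hn : n ≤ D.N
  · have hr0 : ∀ m < n, r m = 0 := by
      intro m hm
      apply pol_ext
      intro s
      rw [← hr, hlow m hm]
      simp
    have hc0 : ∀ m, (r m).coeff 0 = D.H m F g := by
      intro m
      rw [← D.X_apply (D.H_mem m hF) i 0 (hr m), D.X_zero (D.H_mem m hF)]
    -- the coefficient of `X ^ (n + D.ht i * d)`
    let P : k[X] := ∑ j ∈ range d, C (if n + D.ht i * (d - (j + 1)) ≤ D.N then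
      (r (n + D.ht i * (d - (j + 1)))).coeff (j + 1) else 0) * Polynomial.X ^ (j + 1)
    have hP : ∀ s : Fq, P.eval (algebraMap Fq k s) = 0 := by
      intro s
      have h4 := congrArg (fun P : k[X] => P.coeff (n + D.ht i * d)) (h3 s)
      simp only [finsetSum_coeff] at h4
      rw [Finset.sum_congr rfl (fun m _ => coeff_mul_X_pow' _ m (n + D.ht i * d)),
        Finset.sum_congr rfl (fun m _ => by rw [coeff_C_mul, coeff_X_pow] :
          ∀ m ∈ range (D.N + 1), (C (D.H m F g) * Polynomial.X ^ m : k[X]).coeff (n + D.ht i * d) =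
            D.H m F g * if n + D.ht i * d = m then 1 else 0)] at h4
      simp only [coeff_expand hD, comp_C_mul_X_coeff] at h4
      -- rewrite the left side
      have h5 : ∀ m ∈ range (D.N + 1), (if m ≤ n + D.ht i * d then (if D.ht i ∣ n + D.ht i * d - m then
          (r m).coeff ((n + D.ht i * d - m) / D.ht i) * (algebraMap Fq k s) ^ ((n + D.ht i * d - m) / D.ht i) else 0) else 0) =
          (∑ j ∈ range d, if m = n + D.ht i * (d - (j + 1)) then (r m).coeff (j + 1) * (algebraMap Fq k s) ^ (j + 1) else 0) +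
            (D.H m F g * if n + D.ht i * d = m then 1 else 0) := by
        intro m _
        have hjd : ∀ j < d, D.ht i * (d - (j + 1)) + D.ht i * (j + 1) = D.ht i * d := by
          intro j hj
          rw [← Nat.mul_add]; congr 1; omega
        rcases lt_or_ge (n + D.ht i * d) m with hm | hm
        · rw [if_neg (by omega), if_neg (by omega), mul_zero, add_zero, Finset.sum_eq_zero]
          intro j hj
          have := hjd j (Finset.mem_range.1 hj)
          rw [if_neg (by omega)]
        · rw [if_pos hm]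
          by_cases hm2 : n + D.ht i * d = m
          · subst hm2
            rw [if_pos rfl, Nat.sub_self, if_pos (dvd_zero _), Nat.zero_div, hc0, pow_zero, Finset.sum_eq_zero, zero_add]
            intro j hj
            have := hjd j (Finset.mem_range.1 hj)
            have h6 : 0 < D.ht i * (j + 1) := Nat.mul_pos hD (Nat.succ_pos j)
            rw [if_neg (by omega)]
          · rw [if_neg hm2, mul_zero, add_zero]
            by_cases hm3 : m < n
            · rw [hr0 m hm3]
              simp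
            · by_cases hdv : D.ht i ∣ n + D.ht i * d - m
              · obtain ⟨j, hj⟩ := hdv
                have hjpos : 0 < j := by
                  rcases Nat.eq_zero_or_pos j with h6 | h6
                  · rw [h6, mul_zero] at hj; omega
                  · exact h6
                have hjle : j ≤ d := by
                  have h6 : D.ht i * j ≤ D.ht i * d := by omega
                  exact Nat.le_of_mul_le_mul_left h6 hD
                have h7 := hjd (j - 1) (by omega)
                have h8 : j - 1 + 1 = j := by omega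
                rw [h8] at h7
                rw [hj, if_pos (dvd_mul_right _ _), Nat.mul_div_cancel_left _ hD, Finset.sum_eq_single (j - 1)]
                · rw [h8, if_pos (by omega)]
                · intro i' hi' hi''
                  have h9 := hjd i' (Finset.mem_range.1 hi')
                  rw [if_neg]
                  intro h10
                  have h11 : D.ht i * (i' + 1) = D.ht i * j := by omega
                  have := Nat.eq_of_mul_eq_mul_left hD h11
                  omega
                · intro h6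
                  exact absurd (Finset.mem_range.2 (by omega)) h6
              · rw [if_neg hdv, Finset.sum_eq_zero]
                intro j hj
                have h9 := hjd j (Finset.mem_range.1 hj)
                rw [if_neg]
                intro h10
                exact hdv ⟨j + 1, by omega⟩
      rw [Finset.sum_congr rfl h5, Finset.sum_add_distrib] at h4
      have h6 := add_eq_right.1 h4
      rw [Finset.sum_comm] at h6
      rw [← h6]
      show (∑ j ∈ range d, C (if n + D.ht i * (d - (j + 1)) ≤ D.N then (r (n + D.ht i * (d - (j + 1)))).coeff (j + 1) else 0) *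
        Polynomial.X ^ (j + 1) : k[X]).eval (algebraMap Fq k s) = _
      rw [eval_finsetSum]
      refine Finset.sum_congr rfl fun j hj => ?_
      rw [Finset.sum_ite_eq']
      simp only [eval_mul, eval_C, eval_pow, eval_X, Finset.mem_range]
      by_cases h7 : n + D.ht i * (d - (j + 1)) ≤ D.N
      · rw [if_pos h7, if_pos (by omega)]
      · rw [if_neg h7, if_neg (by omega), zero_mul]
    -- too many roots
    have hP0 : P = 0 := by
      classical
      by_contra hne
      have hdeg : P.natDegree ≤ d := by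
        apply natDegree_sum_le_of_forall_le
        intro j hj
        rw [Finset.mem_range] at hj
        exact (natDegree_C_mul_X_pow_le _ _).trans (by omega)
      have hroots : (Finset.univ.image (algebraMap Fq k)) ⊆ P.roots.toFinset := by
        intro x hx
        obtain ⟨s, -, rfl⟩ := Finset.mem_image.1 hx
        rw [Multiset.mem_toFinset, mem_roots hne]
        exact hP s
      have hcard : (Finset.univ.image (algebraMap Fq k)).card = Fintype.card Fq := by
        rw [Finset.card_image_of_injective _ (algebraMap Fq k).injective, Finset.card_univ]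
      have h7 := Finset.card_le_card hroots
      have h8 := (Multiset.toFinset_card_le P.roots).trans (card_roots' P)
      omega
    have h8 := congrArg (fun P : k[X] => P.coeff d) hP0
    have h9 : P.coeff d = (r n).coeff d := by
      show (∑ j ∈ range d, C (if n + D.ht i * (d - (j + 1)) ≤ D.N then (r (n + D.ht i * (d - (j + 1)))).coeff (j + 1) else 0) *
        Polynomial.X ^ (j + 1) : k[X]).coeff d = _
      rw [finsetSum_coeff, Finset.sum_eq_single (d - 1)]
      · have e1 : d - 1 + 1 = d := by omega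
        have e2 : n + D.ht i * (d - d) = n := by rw [Nat.sub_self, mul_zero, add_zero]
        rw [e1, e2, if_pos hn, coeff_C_mul, coeff_X_pow, if_pos rfl, mul_one]
      · intro j hj hj'
        rw [Finset.mem_range] at hj
        rw [coeff_C_mul, coeff_X_pow, if_neg (show ¬ d = j + 1 by omega), mul_zero]
      · intro h10
        exact absurd (Finset.mem_range.2 (by omega)) h10
    rw [D.X_apply (D.H_mem n hF) i d (hr n), ← h9]
    exact h8
  · have h0 : D.H n F = 0 := by
      funext g
      obtain ⟨P, hP, h⟩ := D.L_pol_δ hF g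
      rw [D.H_apply hF n h]
      exact coeff_eq_zero_of_natDegree_lt (by omega)
    rw [h0, map_zero]

theorem hom_c : D.Hom D.wt D.c := fun s g => D.c_δ g s

/-- split groups: the lowest component of a function fixed by `P` is in `K` -/
theorem low_split {Fq : Type*} [Field Fq] [Fintype Fq] [Algebra Fq k] (hq : ∀ b, D.qq b = Fintype.card Fq)
    {P : Subgroup G} (hz : ∀ b (s : Fq), D.z b (algebraMap Fq k s) ∈ P) (F : G → k) (hF : F ∈ D.L)
    (h1 : ∀ u ∈ P, ∀ g, F (g * u) = F g) (n : ℕ) (hlow : ∀ m < n, D.H m F = 0) : D.H n F ∈ D.K := by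
  rw [mem_K]
  refine ⟨D.H_mem n hF, fun b m h0 hm => ?_⟩
  exact D.low_X (Fq := Fq) hF b (fun s g => h1 _ (hz b s) g) hlow h0 (by rw [← hq b]; exact hm)

/-- **functions in `L` fixed by `P` are multiples of `c`** -/
theorem fix_le {P : Subgroup G} (hc : ∀ u ∈ P, ∀ g, D.c (g * u) = D.c g)
    (hP : ∀ F ∈ D.L, (∀ u ∈ P, ∀ g, F (g * u) = F g) → ∀ n, (∀ m < n, D.H m F = 0) → D.H n F ∈ D.K)
    {F : G → k} (hF : F ∈ D.L) (h1 : ∀ u ∈ P, ∀ g, F (g * u) = F g) : ∃ a : k, F = a • D.c := by
  -- the lowest component of a nonzero such function has degree `wt`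
  have key : ∀ {F : G → k}, F ∈ D.L → (∀ u ∈ P, ∀ g, F (g * u) = F g) → F ≠ 0 →
      ∃ n ≤ D.N, (∀ m < n, D.H m F = 0) ∧ D.H n F ≠ 0 ∧ (n : ℤ) - D.M = D.wt ∧ ∃ a : k, D.H n F = a • D.c := by
    classical
    intro F hF h1 h0
    have hex : ∃ n, D.H n F ≠ 0 := by
      by_contra hcon
      push Not at hcon
      apply h0
      rw [← D.sum_H hF]
      exact Finset.sum_eq_zero fun n _ => hcon n
    let n := Nat.find hex
    have hn : D.H n F ≠ 0 := Nat.find_spec hex
    have hlow : ∀ m < n, D.H m F = 0 := fun m hm => by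
      by_contra h; exact Nat.find_min hex hm h
    have hK := hP F hF h1 n hlow
    obtain ⟨a, ha⟩ := D.K_le hK
    have hwt : (n : ℤ) - D.M = D.wt := by
      have h2 := D.hom_H n hF
      obtain ⟨m, hm, h3⟩ := D.hom_range (D.H_mem n hF) h2 hn
      by_contra hne
      -- `c` is homogeneous of degree `wt`
      have h4 : D.Hom D.wt (D.H n F) := by
        intro s g
        rw [ha, Pi.smul_apply, Pi.smul_apply, D.c_δ, smul_eq_mul, smul_eq_mul]
        ring
      have h5 := D.H_of_hom (D.H_mem n hF) h4 n hne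
      have h6 := D.H_self (D.H_mem n hF) h2 (by omega)
      rw [h5] at h6
      exact hn h6.symm
    obtain ⟨m, hm, h3⟩ := D.hom_range (D.H_mem n hF) (D.hom_H n hF) hn
    exact ⟨n, by omega, hlow, hn, hwt, a, ha⟩
  by_cases h0 : F = 0
  · exact ⟨0, by rw [h0, zero_smul]⟩
  obtain ⟨n, hnN, hlow, hn, hwt, a, ha⟩ := key hF h1 h0
  refine ⟨a, ?_⟩
  by_contra hne
  have hF' : F - a • D.c ∈ D.L := D.L.sub_mem hF (D.L.smul_mem _ D.c_mem)
  obtain ⟨n', hnN', hlow', hn', hwt', a', ha'⟩ := key hF'
    (fun u hu g => by rw [Pi.sub_apply, Pi.sub_apply, Pi.smul_apply, Pi.smul_apply, h1 u hu, hc u hu])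
    (sub_ne_zero.2 hne)
  have : n' = n := by omega
  subst this
  apply hn'
  rw [map_sub, ← ha, D.H_self (D.H_mem _ hF) (D.hom_H _ hF) hnN, sub_self]

end DatR

end Cfsg.Agent.H45.UniE
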